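import Groth.Agent.FlatSyz5.Dim
import Mathlib.RingTheory.Spectrum.Prime.FreeLocus
import Mathlib.RingTheory.Support

/-!
# Openness of the locus of bounded projective dimension along the fibres
-/

set_option autoImplicit false
set_option linter.style.haveILetI false

universe u

open CategoryTheory TensorProduct

namespace Groth.Agent.FibPd6

/-- Reduction modulo an ideal of the base keeps a flat-cokernel injection injective. -/
theorem baseChange_quot_injective {A C : Type u} [CommRing A] [CommRing C] [Algebra A C]
    {K F M : Type u} [AddCommGroup K] [Module C K] [Module A K] [IsScalarTower A C K]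
    [AddCommGroup F] [Module C F] [Module A F] [IsScalarTower A C F]
    [AddCommGroup M] [Module C M] [Module A M] [IsScalarTower A C M] [Module.Flat A M]
    (i : K →ₗ[C] F) (g : F →ₗ[C] M) (hi : Function.Injective i) (hex : Function.Exact i g)
    (hg : Function.Surjective g) (I : Ideal A) :
    Function.Injective (i.baseChange (C ⧸ I.map (algebraMap A C))) := by
  refine (injective_iff_map_eq_zero _).2 fun x hx => ?_
  obtain ⟨k, rfl⟩ := TensorProduct.mk_surjective C K _ Ideal.Quotient.mk_surjective x
  simp only [TensorProduct.mk_apply, LinearMap.baseChange_tmul] at hx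
  have h1 := congrArg (TensorProduct.quotTensorEquivQuotSMul F (I.map (algebraMap A C))) hx
  rw [map_zero, ← map_one (Ideal.Quotient.mk (I.map (algebraMap A C))),
    TensorProduct.quotTensorEquivQuotSMul_mk_tmul, one_smul, Submodule.Quotient.mk_eq_zero] at h1
  have h2 : i k ∈ (I • ⊤ : Submodule A F) := by
    have h : i k ∈ ((I.map (algebraMap A C)) • (⊤ : Submodule C F)).restrictScalars A := h1
    rwa [show ((I.map (algebraMap A C)) • (⊤ : Submodule C F)).restrictScalars A = _ from
      Ideal.smul_restrictScalars I ⊤, Submodule.restrictScalars_top] at h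
  have hinj := W4Lib.lTensor_injective_of_flat_quotient (f := i.restrictScalars A) (g := g.restrictScalars A)
    hi hex hg (A ⧸ I)
  have h3 : (Ideal.Quotient.mk I 1) ⊗ₜ[A] i k = 0 := by
    apply (TensorProduct.quotTensorEquivQuotSMul _ I).injective
    rw [TensorProduct.quotTensorEquivQuotSMul_mk_tmul, one_smul, map_zero, Submodule.Quotient.mk_eq_zero]
    exact h2
  have h4 : (Ideal.Quotient.mk I 1) ⊗ₜ[A] k = 0 := hinj (by rw [LinearMap.lTensor_tmul, map_zero]; exact h3)
  have h5 := congrArg (TensorProduct.quotTensorEquivQuotSMul K I) h4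
  rw [TensorProduct.quotTensorEquivQuotSMul_mk_tmul, one_smul, map_zero, Submodule.Quotient.mk_eq_zero] at h5
  apply (TensorProduct.quotTensorEquivQuotSMul K (I.map (algebraMap A C))).injective
  rw [map_zero, TensorProduct.mk_apply, ← map_one (Ideal.Quotient.mk (I.map (algebraMap A C))),
    TensorProduct.quotTensorEquivQuotSMul_mk_tmul, one_smul, Submodule.Quotient.mk_eq_zero]
  have h6 : k ∈ ((I.map (algebraMap A C)) • (⊤ : Submodule C K)).restrictScalars A := by
    rw [show ((I.map (algebraMap A C)) • (⊤ : Submodule C K)).restrictScalars A = _ from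
      Ideal.smul_restrictScalars I ⊤, Submodule.restrictScalars_top]
    exact h5
  exact h6

variable (A : Type u) {B : Type u} [CommRing A] [CommRing B] [Algebra A B]

/-- The extension of the prime below to the local ring. -/
abbrev J (P : PrimeSpectrum B) : Ideal (Localization.AtPrime P.asIdeal) :=
  (P.asIdeal.under A).map (algebraMap A (Localization.AtPrime P.asIdeal))

theorem J_le (P : PrimeSpectrum B) : J A P ≤ IsLocalRing.maximalIdeal _ :=
  Ideal.map_le_iff_le_comap.2 fun a ha => by
    show algebraMap A (Localization.AtPrime P.asIdeal) a ∈ IsLocalRing.maximalIdeal _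
    rw [IsScalarTower.algebraMap_apply A B (Localization.AtPrime P.asIdeal)]
    exact (IsLocalization.AtPrime.to_map_mem_maximal_iff _ P.asIdeal _).2 ha

theorem J_ne_top (P : PrimeSpectrum B) : J A P ≠ ⊤ := fun e =>
  (IsLocalRing.maximalIdeal.isMaximal _).ne_top (top_le_iff.1 (e ▸ J_le A P))

/-- The fibre stalk in two steps. -/
abbrev FS (P : PrimeSpectrum B) (M : Type u) [AddCommGroup M] [Module B M] : Type u :=
  (Localization.AtPrime P.asIdeal ⧸ J A P) ⊗[Localization.AtPrime P.asIdeal]
    (Localization.AtPrime P.asIdeal ⊗[B] M)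

variable {A}

theorem flat_loc (P : PrimeSpectrum B) (M : Type u) [AddCommGroup M] [Module B M] [Module A M]
    [IsScalarTower A B M] [Module.Flat A M] : Module.Flat A (Localization.AtPrime P.asIdeal ⊗[B] M) :=
  QCoh.flat_base_of_isLocalizedModule P.asIdeal.primeCompl (TensorProduct.mk B _ M 1)

theorem mem_freeLocus_iff (P : PrimeSpectrum B) (M : Type u) [AddCommGroup M] [Module B M] [Module A M]
    [IsScalarTower A B M] [Module.FinitePresentation B M] [Module.Flat A M] :
    Module.Projective (Localization.AtPrime P.asIdeal ⧸ J A P) (FS A P M) ↔ P ∈ Module.freeLocus B M := by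
  haveI : IsLocalRing (Localization.AtPrime P.asIdeal ⧸ J A P) :=
    haveI := Ideal.Quotient.nontrivial_iff.2 (J_ne_top A P)
    IsLocalRing.of_surjective' _ Ideal.Quotient.mk_surjective
  let B' := Localization.AtPrime P.asIdeal
  let e : LocalizedModule P.asIdeal.primeCompl M ≃ₗ[B'] B' ⊗[B] M :=
    (IsLocalizedModule.isBaseChange P.asIdeal.primeCompl B'
      (LocalizedModule.mkLinearMap P.asIdeal.primeCompl M)).equiv.symm
  constructor
  · intro h
    haveI := flat_loc (A := A) P M
    haveI : Module.Finite B' (B' ⊗[B] M) := Module.Finite.base_change B B' M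
    haveI : Module.Finite (B' ⧸ J A P) (FS A P M) := Module.Finite.base_change B' _ _
    haveI : Module.Projective (B' ⧸ J A P) (FS A P M) := h
    haveI : Module.Flat (B' ⧸ J A P) (FS A P M) := Module.Flat.of_projective
    haveI : Module.Free (B' ⧸ J A P) (FS A P M) := Module.free_of_flat_of_isLocalRing
    haveI : Module.Free B' (B' ⊗[B] M) := FlatSyz5.free_of_fibre (P.asIdeal.under A) (J_ne_top A P) this
    exact Module.Free.of_equiv e.symm
  · intro h
    haveI : Module.Free B' (LocalizedModule P.asIdeal.primeCompl M) := h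
    haveI : Module.Free B' (B' ⊗[B] M) := Module.Free.of_equiv e
    infer_instance

variable [Algebra.FinitePresentation A B] [Module.Flat A B]

theorem isOpen_projDimLT (d : ℕ) : ∀ (M : Type u) [AddCommGroup M] [Module B M] [Module A M]
    [IsScalarTower A B M] [Module.FinitePresentation B M] [Module.Flat A M],
    IsOpen {P : PrimeSpectrum B | HasProjectiveDimensionLT
      (ModuleCat.of (Localization.AtPrime P.asIdeal ⧸ J A P) (FS A P M)) (d + 1)} := by
  induction d with
  | zero =>
    intro M _ _ _ _ _ _
    simp only [zero_add, ← projective_iff_hasProjectiveDimensionLT_one, ← IsProjective.iff_projective,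
      mem_freeLocus_iff (A := A)]
    exact Module.isOpen_freeLocus
  | succ d ih =>
    intro M _ _ _ _ _ _
    obtain ⟨a, π, hπ⟩ := Module.Finite.exists_fin' B M
    haveI := FlatSyz5.fp_ker (A := A) π hπ
    haveI : Module.Flat A (LinearMap.ker π) := FlatSyz5.flat_ker A (π.restrictScalars A) hπ
    convert ih (LinearMap.ker π) using 1
    ext P
    simp only [Set.mem_setOf_eq]
    let B' := Localization.AtPrime P.asIdeal
    let R := B' ⧸ J A P
    haveI := flat_loc (A := A) P M
    let i := (LinearMap.ker π).subtype.baseChange B'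
    let g := π.baseChange B'
    have hi : Function.Injective i :=
      Module.Flat.lTensor_preserves_injective_linearMap (M := B') _ Subtype.val_injective
    have hig : Function.Exact i g := lTensor_exact B' (LinearMap.exact_subtype_ker_map π) hπ
    have hg : Function.Surjective g := LinearMap.lTensor_surjective B' hπ
    have hinj : Function.Injective (i.baseChange R) := baseChange_quot_injective i g hi hig hg (P.asIdeal.under A)
    have hex : Function.Exact (i.baseChange R) (g.baseChange R) := lTensor_exact R hig hg
    have hsurj : Function.Surjective (g.baseChange R) := LinearMap.lTensor_surjective R hg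
    let S := ShortComplex.mk (ModuleCat.ofHom (i.baseChange R)) (ModuleCat.ofHom (g.baseChange R))
      (ModuleCat.hom_ext (LinearMap.ext hex.apply_apply_eq_zero))
    have hS : S.ShortExact :=
      { exact := (ShortComplex.moduleCat_exact_iff S).2 fun x hx => (hex x).1 hx
        mono_f := (ModuleCat.mono_iff_injective _).2 hinj
        epi_g := (ModuleCat.epi_iff_surjective _).2 hsurj }
    exact hS.hasProjectiveDimensionLT_X₃_iff d
      ((IsProjective.iff_projective _).1 (inferInstanceAs (Module.Projective R (R ⊗[B'] (B' ⊗[B] (Fin a → B))))))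

theorem upperSemicontinuous_projDim (M : Type u) [AddCommGroup M] [Module B M] [Module A M]
    [IsScalarTower A B M] [Module.FinitePresentation B M] [Module.Flat A M] :
    UpperSemicontinuous fun P : PrimeSpectrum B => projectiveDimension
      (ModuleCat.of (Localization.AtPrime P.asIdeal ⧸ J A P)
        ((Localization.AtPrime P.asIdeal ⧸ J A P) ⊗[B] M)) := by
  let f : PrimeSpectrum B → WithBot ℕ∞ := fun P => projectiveDimension
    (ModuleCat.of (Localization.AtPrime P.asIdeal ⧸ J A P) ((Localization.AtPrime P.asIdeal ⧸ J A P) ⊗[B] M))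
  have hiso : ∀ P : PrimeSpectrum B, Nonempty (ModuleCat.of (Localization.AtPrime P.asIdeal ⧸ J A P) (FS A P M) ≅
      ModuleCat.of (Localization.AtPrime P.asIdeal ⧸ J A P) ((Localization.AtPrime P.asIdeal ⧸ J A P) ⊗[B] M)) :=
    fun P => ⟨(AlgebraTensorModule.cancelBaseChange B (Localization.AtPrime P.asIdeal)
      (Localization.AtPrime P.asIdeal ⧸ J A P) (Localization.AtPrime P.asIdeal ⧸ J A P) M).toModuleIso⟩
  have hd : ∀ d : ℕ, IsOpen {P | f P ≤ (d : WithBot ℕ∞)} := fun d => by
    refine Eq.mp (congrArg IsOpen ?_) (isOpen_projDimLT (A := A) (B := B) d M)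
    ext P
    simp only [Set.mem_setOf_eq, f, projectiveDimension_le_iff]
    obtain ⟨i⟩ := hiso P
    exact ⟨fun _ => hasProjectiveDimensionLT_of_iso i (d + 1), fun _ => hasProjectiveDimensionLT_of_iso i.symm (d + 1)⟩
  have hb : IsOpen {P | f P ≤ ⊥} := by
    convert (Module.isClosed_support (R := B) (M := M)).isOpen_compl using 1
    ext P
    simp only [Set.mem_setOf_eq, f, le_bot_iff, projectiveDimension_eq_bot_iff, ModuleCat.isZero_iff_subsingleton,
      Set.mem_compl_iff, Module.notMem_support_iff]
    let B' := Localization.AtPrime P.asIdeal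
    let e : LocalizedModule P.asIdeal.primeCompl M ≃ₗ[B'] B' ⊗[B] M :=
      (IsLocalizedModule.isBaseChange P.asIdeal.primeCompl B'
        (LocalizedModule.mkLinearMap P.asIdeal.primeCompl M)).equiv.symm
    obtain ⟨i⟩ := hiso P
    constructor
    · intro h
      haveI : Subsingleton (FS A P M) := i.toLinearEquiv.toEquiv.subsingleton
      haveI : Module.Finite B' (B' ⊗[B] M) := Module.Finite.base_change B B' M
      haveI : Subsingleton ((B' ⊗[B] M) ⧸ (J A P • ⊤ : Submodule B' (B' ⊗[B] M))) :=
        (TensorProduct.quotTensorEquivQuotSMul (B' ⊗[B] M) (J A P)).symm.toEquiv.subsingleton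
      have htop : (⊤ : Submodule B' (B' ⊗[B] M)) = ⊥ :=
        Submodule.eq_bot_of_le_smul_of_le_jacobson_bot (J A P) ⊤ Module.Finite.fg_top
          (top_le_iff.2 (Submodule.Quotient.subsingleton_iff.1 inferInstance))
          (by rw [IsLocalRing.jacobson_eq_maximalIdeal ⊥ bot_ne_top]; exact J_le A P)
      haveI : Subsingleton (B' ⊗[B] M) := (Submodule.subsingleton_iff B').1 (subsingleton_of_bot_eq_top htop.symm)
      exact e.toEquiv.subsingleton
    · intro h
      haveI : Subsingleton (B' ⊗[B] M) := e.symm.toEquiv.subsingleton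
      exact i.toLinearEquiv.symm.toEquiv.subsingleton
  rw [upperSemicontinuous_iff_isOpen_preimage]
  intro y
  refine isOpen_iff_forall_mem_open.2 fun P hP => ?_
  have hlt : f P < y := hP
  obtain ⟨z, hz, hzy, hPz⟩ : ∃ z, IsOpen {Q | f Q ≤ z} ∧ z < y ∧ f P ≤ z := by
    refine ⟨f P, ?_, hlt, le_rfl⟩
    rcases hfP : f P with _ | n
    · exact hb
    · cases n with
      | top => exact absurd hlt (by rw [hfP]; exact not_top_lt)
      | coe d => exact hd d
  exact ⟨_, fun Q hQ => lt_of_le_of_lt (show f Q ≤ z from hQ) hzy, hz, hPz⟩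

end Groth.Agent.FibPd6
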